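/-
Hall numbers (S4044), part a: the counterexamples `PSL₂(r)`.
-/
import Cfsg.Agent.Cls.SL2PSL
import Cfsg.Agent.Cls.SL2Dickson
import Mathlib.NumberTheory.LSeries.PrimesInAP

set_option autoImplicit false

open scoped MatrixGroups
open Subgroup CL.SL2

namespace CL.GW.Cor4

theorem exists_split {m : ℕ} (hm : 2 ≤ m) (h1 : ¬ IsPrimePow m) (h2 : m % 4 ≠ 2) :
    ∃ A B : ℕ, m = A * B ∧ A.Coprime B ∧ 1 < A ∧ 1 < B ∧ Odd B ∧ (Odd A ∨ 4 ∣ A) := by
  have hp := Nat.minFac_prime (show m ≠ 1 by omega)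
  have h0 : m ≠ 0 := by omega
  have h3 := Nat.dvd_ordProj_of_dvd h0 hp (Nat.minFac_dvd m)
  have h4 := Nat.ordProj_mul_ordCompl_eq_self m m.minFac
  refine ⟨_, _, h4.symm, (Nat.coprime_ordCompl hp h0).pow_left _,
    hp.one_lt.trans_le (Nat.le_of_dvd (Nat.ordProj_pos _ _) h3), ?_, ?_, ?_⟩
  · refine lt_of_le_of_ne (Nat.ordCompl_pos _ h0) fun h => h1 ?_
    rw [← h, mul_one] at h4
    exact ⟨_, _, hp.prime, hp.factorization_pos_of_dvd h0 (Nat.minFac_dvd m), h4⟩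
  · by_cases h5 : 2 ∣ m
    · rw [(Nat.minFac_eq_two_iff m).2 h5]
      exact Nat.coprime_two_left.1 (Nat.coprime_ordCompl Nat.prime_two h0)
    · exact (Nat.odd_iff.2 (by omega)).of_dvd_nat (Nat.ordCompl_dvd m _)
  · by_cases h5 : 2 ∣ m
    · rw [(Nat.minFac_eq_two_iff m).2 h5]
      exact Or.inr ((Nat.prime_two.pow_dvd_iff_dvd_ordProj (k := 2) h0).1 (by omega))
    · exact Or.inl ((Nat.odd_iff.2 (by omega)).of_dvd_nat (Nat.ordProj_dvd m _))

theorem exists_prime {A B : ℕ} (h : A.Coprime B) (hA : 1 < A) (hB : 1 < B) (N : ℕ) :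
    ∃ r u v : ℕ, N < r ∧ r.Prime ∧ r = A * u + 1 ∧ r + 1 = B * v ∧ u.Coprime A ∧ v.Coprime B := by
  obtain ⟨x, h1, h2⟩ := Nat.chineseRemainder (h.pow 2 2) (A + 1) (B - 1)
  have key : ∀ y, y ≡ A + 1 [MOD A ^ 2] → y ≡ B - 1 [MOD B ^ 2] →
      ∃ u v, y = A * u + 1 ∧ y + 1 = B * v ∧ u.Coprime A ∧ v.Coprime B := fun y h1 h2 => by
    have h3 : A + 1 < A ^ 2 := by nlinarith
    have h4 : B - 1 < B ^ 2 := by
      have : B < B ^ 2 := by nlinarith
      omega
    have h5 := Nat.div_add_mod y (A ^ 2)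
    have h6 := Nat.div_add_mod y (B ^ 2)
    rw [h1, Nat.mod_eq_of_lt h3] at h5
    rw [h2, Nat.mod_eq_of_lt h4] at h6
    refine ⟨A * (y / A ^ 2) + 1, B * (y / B ^ 2) + 1, h5.symm.trans (by ring), ?_, by simp, by simp⟩
    rw [mul_add, ← mul_assoc, ← pow_two]
    omega
  obtain ⟨u, v, h3, h4, -, -⟩ := key x h1 h2
  have hx : x.Coprime (A ^ 2 * B ^ 2) := by
    refine Nat.Coprime.mul_right (Nat.Coprime.pow_right _ ?_) (Nat.Coprime.pow_right _ ?_)
    · rw [h3]; simp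
    · refine Nat.Coprime.coprime_dvd_right (Dvd.intro v h4.symm) (by simp)
  obtain ⟨r, hr, hp, h5⟩ := Nat.forall_exists_prime_gt_and_modEq N (by positivity) hx
  obtain ⟨u, v, h6⟩ := key r ((h5.of_mul_right _).trans h1) ((h5.of_mul_left _).trans h2)
  exact ⟨r, u, v, hr, hp, h6⟩

theorem not_hall {m : ℕ} (hm : 2 ≤ m) (h1 : ¬ IsPrimePow m) (h2 : m % 4 ≠ 2) (h12 : m ≠ 12) (h24 : m ≠ 24)
    (h60 : m ≠ 60) : ¬ ∀ (G : Type) [Group G] [Finite G], m ∣ Nat.card G → m.Coprime (Nat.card G / m) →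
      ∃ H : Subgroup G, Nat.card H = m := fun h => by
  obtain ⟨A, B, rfl, hAB, hA, hB, hBo, hA4⟩ := exists_split hm h1 h2
  obtain ⟨r, u, v, hr, hp, hu, hv, huA, hvB⟩ := exists_prime hAB hA hB (A * B)
  haveI := Fact.mk hp
  have hro : Odd r := hp.odd_of_ne_two (by nlinarith)
  have hrm : ¬ r ∣ A * B := fun h => absurd (Nat.le_of_dvd (by omega) h) (by omega)
  have two : ∀ d, d ∣ r + 1 → d ∣ r - 1 → d ∣ 2 := fun d h1 h2 => by
    have := Nat.dvd_sub h1 h2
    rwa [show r + 1 - (r - 1) = 2 by omega] at this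
  have hA1 : A ∣ r - 1 := ⟨u, by omega⟩
  have hB1 : B ∣ r + 1 := ⟨v, hv⟩
  obtain ⟨w, rfl⟩ : 2 ∣ v := (Nat.coprime_two_left.2 hBo).dvd_of_dvd_mul_left (by
    rw [← hv]; exact hro.add_one.two_dvd)
  have hg : Nat.gcd 2 (Fintype.card (ZMod r) - 1) = 2 := by
    rw [ZMod.card]; exact Nat.gcd_eq_left (by obtain ⟨k, hk⟩ := hro; omega)
  have hc : Nat.card PSL(2, ZMod r) = A * B * (r * u * w) := by
    have h3 := card_psl_mul (F := ZMod r)
    rw [hg, ZMod.card, show r ^ 2 - 1 = (r + 1) * (r - 1) from Nat.sq_sub_sq r 1, hv,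
      show r - 1 = A * u by omega] at h3
    exact Nat.eq_of_mul_eq_mul_right two_pos (h3.trans (by ring))
  have hcop : (A * B).Coprime (r * u * w) := by
    refine Nat.Coprime.mul_right (Nat.Coprime.mul_right ((Nat.Prime.coprime_iff_not_dvd hp).2 hrm).symm
      (Nat.Coprime.mul_left huA.symm ?_)) (Nat.Coprime.mul_left ?_ (hvB.coprime_mul_left).symm)
    · have h3 := two _ ((Nat.gcd_dvd_left B u).trans hB1) ((Nat.gcd_dvd_right B u).trans ⟨A, by rw [mul_comm]; omega⟩)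
      exact Nat.eq_one_of_dvd_coprimes (Nat.coprime_two_left.2 hBo) h3 (Nat.gcd_dvd_left B u)
    · have h3 : 2 * Nat.gcd A w ∣ r + 1 := by
        rw [hv]; exact (Nat.mul_dvd_mul_left 2 (Nat.gcd_dvd_right A w)).mul_left B
      have h4 := two _ ((Dvd.intro_left 2 rfl).trans h3) ((Nat.gcd_dvd_left A w).trans hA1)
      rcases (Nat.dvd_prime Nat.prime_two).1 h4 with h5 | h5
      · exact h5
      · have h6 := Nat.gcd_dvd_left A w
        rw [h5] at h3 h6
        rcases hA4 with h7 | h7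
        · exact absurd h6 (by obtain ⟨k, hk⟩ := h7; omega)
        · exact absurd (two 4 h3 (h7.trans hA1)) (by decide)
  obtain ⟨H, hH⟩ := h PSL(2, ZMod r) ⟨_, hc⟩ (by rwa [hc, Nat.mul_div_cancel_left _ (by omega)])
  have key : ∀ x : H, A * B = orderOf x ∨ A * B = 2 * orderOf x → False := fun x hx => by
    have h3 : A * B ∣ 2 * orderOf x := by
      rcases hx with h | h <;> rw [h]
      exact Dvd.intro_left 2 rfl
    have h4 : B ∣ orderOf x :=
      (Nat.coprime_two_right.2 hBo).dvd_of_dvd_mul_left ((Dvd.intro_left A rfl).trans h3)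
    have h5 := psl_orderOf_cases r (x : PSL(2, ZMod r))
    rw [hg, ZMod.card, orderOf_coe] at h5
    have h6 : (r + 1) / 2 * 2 = r + 1 := Nat.div_mul_cancel hro.add_one.two_dvd
    have h7 : (r - 1) / 2 * 2 = r - 1 := Nat.div_mul_cancel (by obtain ⟨k, hk⟩ := hro; omega)
    rcases h5 with h5 | h5 | h5
    · have h8 : A ∣ r + 1 := ((Dvd.intro B rfl).trans h3).trans (by
        rw [← h6, mul_comm]; exact Nat.mul_dvd_mul_right h5 2)
      have h9 := Nat.le_of_dvd two_pos (two A h8 hA1)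
      obtain rfl : A = 2 := by omega
      rcases hA4 with h | h <;> exact absurd h (by decide)
    · have h9 := Nat.le_of_dvd two_pos (two B hB1 ((h4.trans h5).trans (Dvd.intro 2 h7)))
      obtain rfl : B = 2 := by omega
      exact absurd hBo (by decide)
    · rcases hx with h | h <;> omega
  rcases dickson_coprime r (Matrix.ProjectiveSpecialLinearGroup.toPGL.comp H.subtype)
    (Matrix.ProjectiveSpecialLinearGroup.toPGL_injective.comp H.subtype_injective) (hH ▸ hrm) with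
    h3 | ⟨n, ⟨e⟩⟩ | h3
  · obtain ⟨x, hx⟩ := IsCyclic.exists_ofOrder_eq_natCard (α := H)
    exact key x (Or.inl (hH.symm.trans hx.symm))
  · refine key (e.symm (DihedralGroup.r 1)) (Or.inr ?_)
    rw [e.symm.orderOf_eq, DihedralGroup.orderOf_r_one, ← hH, Nat.card_congr e.toEquiv, DihedralGroup.nat_card]
  · have := card_cases_of_small h3
    omega

end CL.GW.Cor4
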