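/-
Corollary of the Gorenstein-Walter theorem: simple groups of order `4 p^a q^b` and `3 p^a q^b` (S4501).
-/
import Cfsg.Agent.GW.LiftS
import Cfsg.Agent.Cls.SmallIso
import Cfsg.Agent.S0904
import Cfsg.Agent.S3331
import Cfsg.Agent.S0494
import Cfsg.Statements.S4501

set_option autoImplicit false

open Cfsg CL.Grp Subgroup

namespace CL.GW.Cor

universe u

theorem not_solv_of_simple {G : Type u} [Group G] [IsSimpleGroup G] (hna : ∃ x y : G, x * y ≠ y * x) :
    ¬ Group.IsSolvable G := fun hs => by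
  obtain ⟨x, y, h⟩ := hna
  exact h (IsSimpleGroup.comm_iff_isSolvable.2 hs x y)

theorem arith_two {u p q a b : ℕ} (hp : p.Prime) (hq : q.Prime) (hp2 : p ≠ 2) (hq2 : q ≠ 2) (hu : 2 ≤ u)
    (h : (2 * u + 1) * u * (u + 1) = 2 * p ^ a * q ^ b) : u = 2 := by
  have key : ∀ l : ℕ, l.Prime → l ≠ 2 → l ∣ (2 * u + 1) * u * (u + 1) → l = p ∨ l = q := by
    intro l hl h2 hd
    rw [h] at hd
    rcases (Nat.Prime.dvd_mul hl).1 hd with h1 | h1
    · rcases (Nat.Prime.dvd_mul hl).1 h1 with h3 | h3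
      · exact absurd ((Nat.prime_dvd_prime_iff_eq hl Nat.prime_two).1 h3) h2
      · exact Or.inl ((Nat.prime_dvd_prime_iff_eq hl hp).1 (hl.dvd_of_dvd_pow h3))
    · exact Or.inr ((Nat.prime_dvd_prime_iff_eq hl hq).1 (hl.dvd_of_dvd_pow h1))
  have h4 : ¬ 4 ∣ (2 * u + 1) * u * (u + 1) := by
    rw [h, mul_assoc, show 4 = 2 * 2 from rfl, Nat.mul_dvd_mul_iff_left two_pos]
    exact (((hp.odd_of_ne_two hp2).pow).mul ((hq.odd_of_ne_two hq2).pow)).not_two_dvd_nat
  have odd_fac : ∀ n : ℕ, 3 ≤ n → ¬ 4 ∣ n → ∃ l : ℕ, l.Prime ∧ l ≠ 2 ∧ l ∣ n := by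
    intro n h3 hn
    rcases Nat.even_or_odd' n with ⟨m, rfl | rfl⟩
    · obtain ⟨l, hl, hd⟩ := Nat.exists_prime_and_dvd (n := m) (by omega)
      exact ⟨l, hl, by rintro rfl; omega, hd.mul_left 2⟩
    · obtain ⟨l, hl, hd⟩ := Nat.exists_prime_and_dvd (n := 2 * m + 1) (by omega)
      exact ⟨l, hl, by rintro rfl; omega, hd⟩
  by_contra hne
  obtain ⟨l1, p1, n1, d1⟩ := odd_fac (2 * u + 1) (by omega) (by omega)
  obtain ⟨l2, p2, n2, d2⟩ := odd_fac u (by omega) fun e => h4 ((e.mul_left _).mul_right _)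
  obtain ⟨l3, p3, n3, d3⟩ := odd_fac (u + 1) (by omega) fun e => h4 (e.mul_left _)
  have e12 : l1 ≠ l2 := by
    rintro rfl
    exact p1.one_lt.ne' (Nat.dvd_one.1 ((Nat.dvd_add_right (d2.mul_left 2)).1 d1))
  have e23 : l2 ≠ l3 := by
    rintro rfl
    exact p2.one_lt.ne' (Nat.dvd_one.1 ((Nat.dvd_add_right d2).1 d3))
  have e13 : l1 ≠ l3 := by
    rintro rfl
    have := d3.mul_left 2
    rw [show 2 * (u + 1) = 2 * u + 1 + 1 by ring] at this
    exact p1.one_lt.ne' (Nat.dvd_one.1 ((Nat.dvd_add_right d1).1 this))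
  have k1 := key l1 p1 n1 ((d1.mul_right _).mul_right _)
  have k2 := key l2 p2 n2 ((d2.mul_left _).mul_right _)
  have k3 := key l3 p3 n3 (d3.mul_left _)
  omega

theorem order_four (hGW : GWSimple.{u}) {G : Type u} [Group G] [Finite G] [IsSimpleGroup G]
    (hna : ∃ x y : G, x * y ≠ y * x) {p q a b : ℕ} (hp : p.Prime) (hq : q.Prime)
    (h : Nat.card G = 4 * p ^ a * q ^ b) : Nonempty (G ≃* alternatingGroup (Fin 5)) := by
  have hns := not_solv_of_simple hna
  have hp2 : p ≠ 2 := by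
    rintro rfl
    exact hns (CL.Char.isSolvable_of_card_eq_pow_mul_pow (a := 2 + a) (b := b) Nat.prime_two hq (by rw [h]; ring))
  have hq2 : q ≠ 2 := by
    rintro rfl
    exact hns (CL.Char.isSolvable_of_card_eq_pow_mul_pow (a := 2 + b) (b := a) Nat.prime_two hp (by rw [h]; ring))
  have hodd : Odd (p ^ a * q ^ b) := ((hp.odd_of_ne_two hp2).pow).mul ((hq.odd_of_ne_two hq2).pow)
  have := Fact.mk Nat.prime_two
  obtain ⟨S⟩ : Nonempty (Sylow 2 G) := inferInstance
  have hS : Nat.card (S : Subgroup G) = 4 := by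
    rw [S.card_eq_multiplicity, h, mul_assoc, show 4 = 2 ^ 2 from rfl,
      Nat.factorization_mul (by positivity) hodd.pos.ne', Nat.Prime.factorization_pow Nat.prime_two]
    simp [Nat.factorization_eq_zero_of_not_dvd hodd.not_two_dvd_nat]
  have hnc : ¬ IsCyclic (S : Subgroup G) := fun hc => hns (Lift.isSolvable_of_quot (by
    have := (Lift.CycSyl.isPGroup_quot ⟨S, hc⟩).isNilpotent
    infer_instance))
  have hV : IsKleinFour (S : Subgroup G) := by
    refine ⟨hS, ?_⟩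
    have := (not_isCyclic_iff_exponent_eq_prime Nat.prime_two (by rw [hS]; rfl)).1 hnc
    exact this
  rcases hGW G ⟨S, 2, le_rfl, IsKleinFour.nonempty_mulEquiv⟩ with ⟨F, _, _, ⟨u, hu⟩, h3, ⟨e⟩⟩ | ⟨⟨e⟩⟩
  · have h1 : Nat.card G = 2 * ((2 * u + 1) * u * (u + 1)) := by
      rw [Nat.card_congr e.toEquiv]
      refine CL.Cls.card_PSL_two_of_card (d := 2) hu (by simp) two_pos ?_
      rw [show (2 * u + 1) ^ 2 = 4 * (u * (u + 1)) + 1 by ring, Nat.add_sub_cancel]; ring
    have h2 := arith_two (a := a) (b := b) hp hq hp2 hq2 (u := u) (by omega) (by rw [h] at h1; linarith)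
    exact Cfsg.Agent.S0494.result (by rw [h1, h2])
  · exfalso
    have h1 : Nat.card G = 2520 := by
      rw [Nat.card_congr e.toEquiv, nat_card_alternatingGroup]; simp [Nat.factorial]
    rw [h, mul_assoc] at h1
    obtain ⟨k, hk⟩ := hodd
    omega

theorem order_three {G : Type u} [Group G] [Finite G] [IsSimpleGroup G]
    (hna : ∃ x y : G, x * y ≠ y * x) {p q a b : ℕ} (hp : p.Prime) (hq : q.Prime) (hpq : p ≠ q)
    (h : Nat.card G = 3 * p ^ a * q ^ b) : Nonempty (G ≃* alternatingGroup (Fin 5)) ∨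
      Nonempty (G ≃* Matrix.ProjectiveSpecialLinearGroup (Fin 2) (ZMod 7)) := by
  have hns := not_solv_of_simple hna
  have hp3 : p ≠ 3 := by
    rintro rfl
    exact hns (CL.Char.isSolvable_of_card_eq_pow_mul_pow (a := 1 + a) (b := b) Nat.prime_three hq (by rw [h]; ring))
  have hq3 : q ≠ 3 := by
    rintro rfl
    exact hns (CL.Char.isSolvable_of_card_eq_pow_mul_pow (a := 1 + b) (b := a) Nat.prime_three hp (by rw [h]; ring))
  have := Fact.mk Nat.prime_three
  obtain ⟨S⟩ : Nonempty (Sylow 3 G) := inferInstance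
  have hnd : ¬ 3 ∣ p ^ a * q ^ b := fun hd => by
    rcases (Nat.Prime.dvd_mul Nat.prime_three).1 hd with h1 | h1
    · exact hp3 ((Nat.prime_dvd_prime_iff_eq Nat.prime_three hp).1 (Nat.prime_three.dvd_of_dvd_pow h1)).symm
    · exact hq3 ((Nat.prime_dvd_prime_iff_eq Nat.prime_three hq).1 (Nat.prime_three.dvd_of_dvd_pow h1)).symm
  have hS : Nat.card (S : Subgroup G) = 3 := by
    rw [S.card_eq_multiplicity, h, mul_assoc,
      Nat.factorization_mul three_ne_zero (mul_pos (pow_pos hp.pos a) (pow_pos hq.pos b)).ne',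
      Nat.Prime.factorization Nat.prime_three]
    simp [Nat.factorization_eq_zero_of_not_dvd hnd]
  have hC := Cfsg.Agent.S0904.result p q 3 a b hp hq hpq hp3 hq3 (by rw [h]; ring) S
  rcases Cfsg.Agent.S3331.result _ hS hC with ⟨N, hN, h1, -, h2⟩ | ⟨N, hN, h1, -, ⟨e⟩⟩ | h1
  · exfalso
    refine hns (Lift.isSolvable_of_normal_quot' N inferInstance ?_)
    rcases h2 with h2 | ⟨⟨e⟩⟩
    · have := (IsPGroup.of_card (G := G ⧸ N) (p := 3) (n := 1) (by rw [h2]; rfl)).isNilpotent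
      infer_instance
    · have := CL.Known.isSolvable_perm_of_card_le_four (α := Fin 3) (by simp)
      exact Group.isSolvable_of_surjective (f := e.symm.toMonoidHom) e.symm.surjective
  · rcases hN.eq_bot_or_eq_top with rfl | rfl
    · exact Or.inl ⟨QuotientGroup.quotientBot.symm.trans e⟩
    · obtain ⟨x, y, hxy⟩ := hna
      exact absurd (congrArg Subtype.val (h1.1.1 ⟨x, mem_top x⟩ ⟨y, mem_top y⟩)) hxy
  · exact Or.inr h1

theorem S4501_of (hGW : GWSimple.{u}) : type_of% @Cfsg.CfsgFrozen.S4501.{u} :=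
  fun hna _ _ _ _ hp hq hpq _ => ⟨order_four hGW hna hp hq, order_three hna hp hq hpq⟩

end CL.GW.Cor
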